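import Groth.Agent.H27LogPoly.Homotopy
import Groth.Prelude.Def_DeRham
import Groth.Prelude.Def_LogDiff

/-!
# Cohomology of the logarithmic de Rham complex of affine space in characteristic `p`
-/

set_option autoImplicit false
universe u

open exteriorPower MvPolynomial
open Groth.Agent.H27Cartier

namespace Groth.Agent.H27LogPoly

variable {R : Type u} [CommRing R] {n r : ℕ} (hr : r ≤ n)
  {L : Type u} [AddCommGroup L] [Module (MvPolynomial (Fin n) R) L]
  (ι : (Ω[MvPolynomial (Fin n) R⁄R]) →ₗ[MvPolynomial (Fin n) R] L) (dl : Fin r → L)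

local notation "PP" => MvPolynomial (Fin n) R

/-- `1` on the variables without a pole. -/
def shift (r n : ℕ) (ν : Fin n) : ℕ := if r ≤ (ν : ℕ) then 1 else 0

theorem shift_le (ν : Fin n) : shift r n ν ≤ 1 := by unfold shift; split <;> omega

/-- The candidate basis. -/
noncomputable def frameVec (ν : Fin n) : L :=
  if h : (ν : ℕ) < r then dl ⟨ν, h⟩ else ι (KaehlerDifferential.D R _ (X ν))

theorem frameVec_castLE (i : Fin r) : frameVec ι dl (Fin.castLE hr i) = dl i := by
  rw [frameVec, dif_pos (show ((Fin.castLE hr i : Fin n) : ℕ) < r from i.2)]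
  rfl

theorem frameVec_of_le {ν : Fin n} (h : r ≤ (ν : ℕ)) :
    frameVec ι dl ν = ι (KaehlerDifferential.D R _ (X ν)) := by
  rw [frameVec, dif_neg (by omega)]

variable (hL : LogDiff.IsLog (KaehlerDifferential.D R (MvPolynomial (Fin n) R))
      (fun i : Fin r => (MvPolynomial.X (Fin.castLE hr i) : MvPolynomial (Fin n) R)) ι dl)

include hL in
theorem X_smul_frame (ν : Fin n) : ι (KaehlerDifferential.D R _ (X ν)) =
    ((X ν : MvPolynomial (Fin n) R) ^ (1 - shift r n ν)) • frameVec ι dl ν := by
  by_cases h : r ≤ (ν : ℕ)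
  · rw [frameVec_of_le ι dl h, shift, if_pos h, Nat.sub_self, pow_zero, one_smul]
  · rw [shift, if_neg h, Nat.sub_zero, pow_one]
    have h' := hL.1 ⟨ν, by omega⟩
    rw [show (ν : Fin n) = Fin.castLE hr ⟨ν, by omega⟩ from Fin.ext rfl, frameVec_castLE hr]
    exact h'.symm

include hr hL in
theorem span_frame : Submodule.span (MvPolynomial (Fin n) R) (Set.range (frameVec ι dl)) = ⊤ := by
  rw [eq_top_iff, ← hL.2.1, Submodule.span_le]
  rintro _ (⟨ω, rfl⟩ | ⟨i, rfl⟩)
  · rw [← (KaehlerDifferential.mvPolynomialBasis R (Fin n)).sum_repr ω, map_sum]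
    refine Submodule.sum_mem _ fun ν _ => ?_
    rw [map_smul, KaehlerDifferential.mvPolynomialBasis_apply, X_smul_frame hr ι dl hL]
    exact Submodule.smul_mem _ _ (Submodule.smul_mem _ _ (Submodule.subset_span ⟨ν, rfl⟩))
  · exact Submodule.subset_span ⟨Fin.castLE hr i, frameVec_castLE hr ι dl i⟩

include hr hL in
theorem frame_indep : LinearIndependent (MvPolynomial (Fin n) R) (frameVec ι dl) := by
  classical
  let T : MvPolynomial (Fin n) R := ∏ i : Fin r, X (Fin.castLE hr i)
  let b := KaehlerDifferential.mvPolynomialBasis R (Fin n)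
  have hc : ∀ ν : Fin n, ∃ q : MvPolynomial (Fin n) R, q * X ν ^ (1 - shift r n ν) = T ∧ IsRegular q := by
    intro ν
    by_cases h : r ≤ (ν : ℕ)
    · refine ⟨T, by rw [shift, if_pos h, Nat.sub_self, pow_zero, mul_one], ?_⟩
      exact .prod fun i _ => isRegular_X
    · refine ⟨∏ i ∈ Finset.univ.erase (⟨ν, by omega⟩ : Fin r), X (Fin.castLE hr i), ?_, .prod fun i _ => isRegular_X⟩
      rw [shift, if_neg h, Nat.sub_zero, pow_one]
      exact Finset.prod_erase_mul (f := fun i : Fin r => (X (Fin.castLE hr i) : MvPolynomial (Fin n) R)) _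
        (Finset.mem_univ (⟨ν, by omega⟩ : Fin r))
  choose q hq hqr using hc
  rw [Fintype.linearIndependent_iff]
  intro c hc ν
  have h0 : ι (∑ μ, (c μ * q μ) • b μ) = 0 := by
    rw [map_sum]
    simp only [map_smul, b, KaehlerDifferential.mvPolynomialBasis_apply, X_smul_frame hr ι dl hL, smul_smul]
    rw [show (∑ μ, (c μ * q μ * X μ ^ (1 - shift r n μ)) • frameVec ι dl μ) = T • ∑ μ, c μ • frameVec ι dl μ from ?_,
      hc, smul_zero]
    rw [Finset.smul_sum]
    refine Finset.sum_congr rfl fun μ _ => ?_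
    rw [mul_assoc, hq, mul_comm, mul_smul]
  obtain ⟨k, hk⟩ := (hL.2.2.2 _).1 h0
  have h1 := congrArg (fun ω => b.repr ω ν) hk
  simp only [map_smul, map_sum, Finsupp.smul_apply, Finsupp.finsetSum_apply, Module.Basis.repr_self, map_zero,
    Finsupp.zero_apply, smul_eq_mul, Finsupp.single_apply, mul_ite, mul_one, mul_zero, Finset.sum_ite_eq',
    Finset.mem_univ, if_true] at h1
  have hT : IsRegular T := .prod fun i _ => isRegular_X
  exact (hqr ν).right.mul_right_eq_zero_iff.1 ((hT.pow k).left.mul_left_eq_zero_iff.1 h1)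

/-- The frame as a basis. -/
noncomputable def frame : Module.Basis (Fin n) (MvPolynomial (Fin n) R) L :=
  Module.Basis.mk (frame_indep hr ι dl hL) (span_frame hr ι dl hL).ge

theorem frame_apply (ν : Fin n) : frame hr ι dl hL ν = frameVec ι dl ν := Module.Basis.mk_apply _ _ ν

theorem dlogOp_eq (b : MvPolynomial (Fin n) R) (ν : Fin n) :
    dlogOp (shift r n) ν b = X ν ^ (1 - shift r n ν) * pderiv ν b := by
  induction b using MvPolynomial.induction_on' with
  | add x y hx hy => simp only [map_add, hx, hy, mul_add]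
  | monomial m c =>
    rw [dlogOp, op_monomial, pderiv_monomial, X_pow_eq_monomial, monomial_mul, one_mul]
    rcases Nat.eq_zero_or_pos (m ν) with h | h
    · simp [h]
    · by_cases hν : r ≤ (ν : ℕ)
      · rw [shift, if_pos hν, Nat.sub_self, Finsupp.single_zero, zero_add]
      · rw [shift, if_neg hν, Nat.sub_zero, Finsupp.single_zero, tsub_zero,
          add_tsub_cancel_of_le (Finsupp.single_le_iff.2 h)]

variable [Module R L] [IsScalarTower R (MvPolynomial (Fin n) R) L]
  (d : ∀ q : ℕ, ↥(⋀[MvPolynomial (Fin n) R]^q L) →ₗ[R] ↥(⋀[MvPolynomial (Fin n) R]^(q + 1) L))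
  (hlog : LogDiff.IsLogRule (KaehlerDifferential.D R (MvPolynomial (Fin n) R)) ι dl d)

include hlog in
theorem d_smul_const (q : ℕ) (b : MvPolynomial (Fin n) R) (x : ↥(⋀[MvPolynomial (Fin n) R]^q L))
    (hx : x ∈ const (frame hr ι dl hL) q) :
    d q (b • x) = ∑ μ, dlogOp (shift r n) μ b • H27DR.lwedge q (frame hr ι dl hL μ) x := by
  induction hx using AddSubgroup.closure_induction with
  | mem x hx =>
    obtain ⟨e, rfl⟩ := hx
    show d q (b • wedge _ e) = _
    rw [wedge, hlog q b _ fun k => ?_]
    · rw [← H27DR.lwedge_ιMulti]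
      have hb : ι (KaehlerDifferential.D R _ b) = ∑ μ, dlogOp (shift r n) μ b • frame hr ι dl hL μ := by
        conv_lhs => rw [← (KaehlerDifferential.mvPolynomialBasis R (Fin n)).sum_repr (KaehlerDifferential.D R _ b)]
        rw [map_sum]
        refine Finset.sum_congr rfl fun μ _ => ?_
        rw [map_smul, KaehlerDifferential.mvPolynomialBasis_repr_apply, KaehlerDifferential.mvPolynomialBasis_apply,
          X_smul_frame hr ι dl hL, smul_smul, dlogOp_eq, frame_apply, mul_comm]
      rw [hb]
      apply Subtype.ext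
      simp only [wedge, H27DR.coe_lwedge, map_sum, Finset.sum_mul, Submodule.coe_sum, Submodule.coe_smul, map_smul,
        smul_mul_assoc]
    · rw [frame_apply]
      by_cases h : r ≤ (e k : ℕ)
      · exact Or.inl ⟨X (e k), frameVec_of_le ι dl h⟩
      · exact Or.inr ⟨⟨e k, by omega⟩, by rw [frameVec, dif_pos (show (e k : ℕ) < r by omega)]⟩
  | zero => simp
  | add x y _ _ hx hy => simp only [smul_add, map_add, hx, hy, Finset.sum_add_distrib]
  | neg x _ hx => simp only [smul_neg, map_neg, hx, Finset.sum_neg_distrib]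

variable (p : ℕ) [hp : Fact p.Prime] [CharP R p]

/-- The exponents of `e_S`. -/
noncomputable def sexp (r : ℕ) (S : Finset (Fin n)) : Fin n →₀ ℕ :=
  Finsupp.equivFunOnFinite.symm fun ν => if ν ∈ S then (p - 1) * shift r n ν else 0

omit hp [CharP R p] [Module R L] [IsScalarTower R (MvPolynomial (Fin n) R) L] in
theorem prod_X_pow (S : Finset (Fin n)) :
    ∏ ν ∈ S, (X ν : MvPolynomial (Fin n) R) ^ ((p - 1) * shift r n ν) = monomial (sexp p r S) 1 := by
  rw [monomial_eq, map_one, one_mul, Finsupp.prod_fintype _ _ fun _ => pow_zero _]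
  simp only [sexp, Finsupp.equivFunOnFinite_symm_apply_apply, pow_ite, pow_zero, Finset.prod_ite_mem,
    Finset.univ_inter]

variable (w : Fin n → L) (hw : ∀ i : Fin r, w (Fin.castLE hr i) = dl i)
  (hw' : ∀ ν : Fin n, r ≤ (ν : ℕ) → w ν = ι (((MvPolynomial.X ν : MvPolynomial (Fin n) R) ^ (p - 1)) •
      KaehlerDifferential.D R (MvPolynomial (Fin n) R) (MvPolynomial.X ν)))

include hw hw' in
omit hp [CharP R p] [Module R L] [IsScalarTower R (MvPolynomial (Fin n) R) L] in
theorem wedge_w {a : ℕ} (s : Set.powersetCard (Fin n) a) :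
    ιMulti (MvPolynomial (Fin n) R) a (fun j => w (s.1.orderEmbOfFin s.2 j)) =
      monomial (sexp p r s.1) (1 : R) • wedgeSet (frame hr ι dl hL) s := by
  have hν : ∀ ν, w ν = ((X ν : MvPolynomial (Fin n) R) ^ ((p - 1) * shift r n ν)) • frame hr ι dl hL ν := by
    intro ν
    rw [frame_apply]
    by_cases h : r ≤ (ν : ℕ)
    · rw [hw' ν h, map_smul, frameVec_of_le ι dl h, shift, if_pos h, mul_one]
    · rw [shift, if_neg h, mul_zero, pow_zero, one_smul,
        show ν = Fin.castLE hr ⟨ν, by omega⟩ from Fin.ext rfl, hw, frameVec_castLE]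
  rw [funext fun j => hν (s.1.orderEmbOfFin s.2 j)]
  rw [← AlternatingMap.coe_multilinearMap, MultilinearMap.map_smul_univ, wedgeSet_eq, wedge,
    ← prod_X_pow (r := r) p s.1]
  congr 1
  conv_rhs => rw [← Finset.image_orderEmbOfFin_univ s.1 s.2]
  rw [Finset.prod_image fun i _ j _ h => (s.1.orderEmbOfFin s.2).injective h]

omit [Module R L] [IsScalarTower R (MvPolynomial (Fin n) R) L] in
/-- The projection produces `p`-th powers times the `e_S`. -/
theorem projW_eq (S : Finset (Fin n)) (b : MvPolynomial (Fin n) R) :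
    ∃ g : MvPolynomial (Fin n) R, projW p (shift r n) Finset.univ S b = expand p g * monomial (sexp p r S) 1 := by
  induction b using MvPolynomial.induction_on' with
  | add x y hx hy =>
    obtain ⟨g, hg⟩ := hx; obtain ⟨g', hg'⟩ := hy
    exact ⟨g + g', by rw [map_add, map_add, hg, hg', add_mul]⟩
  | monomial m c =>
    rw [projW_monomial]
    by_cases h : ∀ ν, ((wt (shift r n) S ν m : ℕ) : ZMod p) = 0
    · refine ⟨monomial (divExp p m) c, ?_⟩
      rw [Finset.prod_eq_one fun ν _ => (show ind p ((wt (shift r n) S ν m : ℕ) : ZMod p) = (1 : R) from if_pos (h ν)), mul_one, expand_monomial, monomial_mul, mul_one]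
      congr 1
      congr 1
      ext ν
      obtain ⟨t, ht⟩ := (ZMod.natCast_eq_zero_iff _ _).1 (h ν)
      have hp2 := hp.out.two_le
      have hv : m ν = p * (m ν / p) + (if ν ∈ S then (p - 1) * shift r n ν else 0) := by
        rw [wt] at ht
        by_cases hS : ν ∈ S
        · rw [if_pos hS] at ht ⊢
          rcases (show shift r n ν = 0 ∨ shift r n ν = 1 by have := shift_le (r := r) ν; omega) with e | e
          · rw [e] at ht ⊢
            rw [add_zero] at ht
            rw [ht, Nat.mul_div_cancel_left _ hp.out.pos, mul_zero, add_zero]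
          · rw [e] at ht ⊢
            obtain ⟨u, rfl⟩ : ∃ u, t = u + 1 := ⟨t - 1, by rcases t with _ | t <;> simp_all⟩
            have : m ν = (p - 1) + p * u := by rw [mul_add, mul_one] at ht; omega
            rw [this, Nat.add_mul_div_left _ _ hp.out.pos, Nat.div_eq_of_lt (show p - 1 < p by omega), zero_add,
              mul_one, add_comm]
        · rw [if_neg hS] at ht ⊢
          rw [add_zero] at ht
          rw [ht, Nat.mul_div_cancel_left _ hp.out.pos, add_zero]
      simpa [sexp, divExp] using hv
    · obtain ⟨ν, hν⟩ := not_forall.1 h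
      exact ⟨0, by rw [Finset.prod_eq_zero (Finset.mem_univ ν) (show ind p ((wt (shift r n) S ν m : ℕ) : ZMod p) = (0 : R) from if_neg hν)]; simp⟩

omit [Module R L] [IsScalarTower R (MvPolynomial (Fin n) R) L] in
theorem projW_expand (S : Finset (Fin n)) (g : MvPolynomial (Fin n) R) :
    projW p (shift r n) Finset.univ S (expand p g * monomial (sexp p r S) 1) =
      expand p g * monomial (sexp p r S) 1 := by
  induction g using MvPolynomial.induction_on' with
  | add x y hx hy => simp only [map_add, add_mul, hx, hy]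
  | monomial m c =>
    rw [expand_monomial, monomial_mul, mul_one, projW_monomial, Finset.prod_eq_one fun ν _ => ?_, mul_one]
    refine if_pos ?_
    have hp1 := hp.out.one_le
    simp only [wt, sexp, Finsupp.add_apply, Finsupp.smul_apply, smul_eq_mul,
      Finsupp.equivFunOnFinite_symm_apply_apply]
    by_cases hS : ν ∈ S
    · rw [if_pos hS, if_pos hS, show p * m ν + (p - 1) * shift r n ν + shift r n ν =
        p * (m ν + shift r n ν) by rw [Nat.sub_mul, one_mul, mul_add]; have : shift r n ν ≤ p * shift r n ν := Nat.le_mul_of_pos_left _ hp.out.pos; omega]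
      simp
    · simp [hS]

variable (hdd : ∀ q, d (q + 1) ∘ₗ d q = 0)

include hlog hdd hL hw hw' in
theorem main (a : ℕ) (e : Finset (Fin n) → ↥(⋀[MvPolynomial (Fin n) R]^a L))
    (he : ∀ (s : Finset (Fin n)) (hs : s.card = a),
      e s = exteriorPower.ιMulti (MvPolynomial (Fin n) R) a (fun j => w (s.orderEmbOfFin hs j))) :
    (∀ ω, ω ∈ DeRham.cocycles d a ↔
      ∃ (g : Finset (Fin n) → MvPolynomial (Fin n) R) (η : ↥(⋀[MvPolynomial (Fin n) R]^a L)),
        η ∈ DeRham.coboundaries d a ∧
          ω = η + ∑ s ∈ Finset.powersetCard a Finset.univ, MvPolynomial.expand p (g s) • e s) ∧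
    (∀ g : Finset (Fin n) → MvPolynomial (Fin n) R,
      (∑ s ∈ Finset.powersetCard a Finset.univ, MvPolynomial.expand p (g s) • e s) ∈ DeRham.coboundaries d a →
        ∀ s ∈ Finset.powersetCard a (Finset.univ : Finset (Fin n)), g s = 0) := by
  classical
  set ε := frame hr ι dl hL with hε
  have hrule := d_smul_const hr ι dl hL d hlog
  have hsum : ∀ g : Finset (Fin n) → MvPolynomial (Fin n) R,
      (∑ s ∈ Finset.powersetCard a Finset.univ, MvPolynomial.expand p (g s) • e s) =
      ∑ s : Set.powersetCard (Fin n) a, (expand p (g s.1) * monomial (sexp p r s.1) 1) • wedgeSet ε s := by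
    intro g
    rw [Finset.sum_subtype (Finset.powersetCard a Finset.univ) (p := fun s => s ∈ Set.powersetCard (Fin n) a)
      (fun s => by simp [Set.powersetCard.mem_iff]) fun s => expand p (g s) • e s]
    refine Finset.sum_congr rfl fun s _ => ?_
    rw [he s.1 s.2, wedge_w hr ι dl hL p w hw hw' s, smul_smul]
  have hfix : ∀ g : Finset (Fin n) → MvPolynomial (Fin n) R,
      projForm p ε (shift r n) Finset.univ a (∑ s ∈ Finset.powersetCard a Finset.univ, expand p (g s) • e s) =
        ∑ s ∈ Finset.powersetCard a Finset.univ, expand p (g s) • e s := fun g => by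
    rw [hsum, map_sum]
    refine Finset.sum_congr rfl fun s _ => ?_
    rw [projForm, hat_smul_wedgeSet, projW_expand]
  refine ⟨fun ω => ⟨fun hω => ?_, ?_⟩, fun g hg => ?_⟩
  · obtain ⟨⟨η, hη, heq⟩, -⟩ := sub_projForm_mem (p := p) shift_le ε d hrule hdd Finset.univ a ω hω
    have hpr : ∀ x, ∃ g : Finset (Fin n) → MvPolynomial (Fin n) R, projForm p ε (shift r n) Finset.univ a x =
        ∑ s ∈ Finset.powersetCard a Finset.univ, expand p (g s) • e s := by
      intro x
      refine form_induction ε (motive := fun x => ∃ g : Finset (Fin n) → MvPolynomial (Fin n) R,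
        projForm p ε (shift r n) Finset.univ a x =
          ∑ s ∈ Finset.powersetCard a Finset.univ, expand p (g s) • e s) ⟨0, by simp⟩ ?_ ?_ x
      · rintro x y ⟨g, hg⟩ ⟨g', hg'⟩
        exact ⟨g + g', by rw [map_add, hg, hg', ← Finset.sum_add_distrib]; simp only [Pi.add_apply, map_add, add_smul]⟩
      · intro m c s
        obtain ⟨g, hg⟩ := projW_eq (R := R) (r := r) p s.1 (monomial m c)
        refine ⟨Pi.single s.1 g, ?_⟩
        rw [hsum, Finset.sum_eq_single s (fun t _ ht => ?_) (by simp), Pi.single_eq_same, projForm, hat_smul_wedgeSet, hg]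
        rw [Pi.single_eq_of_ne (fun h => ht (Subtype.ext h)), map_zero, zero_mul, zero_smul]
    obtain ⟨g, hg⟩ := hpr ω
    refine ⟨g, η, ?_, hg ▸ heq⟩
    cases a with
    | zero => exact (Submodule.mem_bot R).2 hη
    | succ b => exact hη
  · rintro ⟨g, η, hη, rfl⟩
    refine add_mem ?_ ?_
    · cases a with
      | zero => rw [(Submodule.mem_bot R).1 hη]; exact zero_mem _
      | succ b =>
        obtain ⟨ζ, rfl⟩ := hη
        exact LinearMap.congr_fun (hdd b) ζ
    · show d a _ = 0
      rw [hsum, map_sum]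
      refine Finset.sum_eq_zero fun s _ => ?_
      rw [hrule a _ _ (wedgeSet_mem_const ε s)]
      refine Finset.sum_eq_zero fun μ _ => ?_
      by_cases hμ : μ ∈ s.1
      · rw [wedgeSet_eq, ← wedge_cons, wedge]
        rw [AlternatingMap.map_eq_zero_of_not_injective, smul_zero]
        intro hinj
        obtain ⟨j, -, hj⟩ := Finset.mem_image.1 ((Finset.image_orderEmbOfFin_univ s.1 s.2).symm ▸ hμ)
        exact Fin.succ_ne_zero j (hinj (by simp [hj]))
      · suffices h : dlogOp (shift r n) μ (expand p (g s.1) * monomial (sexp p r s.1) 1) = 0 by rw [h, zero_smul]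
        generalize g s.1 = G
        induction G using MvPolynomial.induction_on' with
        | add x y hx hy => simp only [map_add, add_mul, hx, hy, add_zero]
        | monomial m c =>
          rw [expand_monomial, monomial_mul, mul_one, dlogOp, op_monomial]
          simp [sexp, hμ]
  · rw [hsum] at hg
    have hz : (∑ s : Set.powersetCard (Fin n) a,
        (expand p (g s.1) * monomial (sexp p r s.1) 1) • wedgeSet ε s) = 0 := by
      rw [← hsum, ← hfix g, hsum]
      cases a with
      | zero => rw [(Submodule.mem_bot R).1 hg, map_zero]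
      | succ b =>
        obtain ⟨ζ, hζ⟩ := hg
        rw [← hζ]
        exact projForm_d_eq_zero (p := p) shift_le ε d hrule b ζ
    intro s hs
    have h0 := Fintype.linearIndependent_iff.1 (ε.exteriorPower a).linearIndependent _ hz
      ⟨s, (Finset.mem_powersetCard.1 hs).2⟩
    have hreg : IsRegular (monomial (sexp p r s) (1 : R)) := by
      rw [← prod_X_pow (R := R) (r := r) p s]
      exact .prod fun i _ => isRegular_X.pow _
    exact expand_injective hp.out.pos ((hreg.right.mul_right_eq_zero_iff.1 h0).trans (map_zero _).symm)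

end Groth.Agent.H27LogPoly
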