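import Groth.Agent.H27LogPoly.Ops

/-!
# The monomial homotopy for the logarithmic de Rham complex in characteristic `p`
-/

set_option autoImplicit false
universe u

open exteriorPower MvPolynomial
open Groth.Agent.H27Cartier

namespace Groth.Agent.H27LogPoly

variable {p : ℕ} [hp : Fact p.Prime] {R : Type u} [CommRing R] [CharP R p] {n : ℕ}

/-- The derivative in log coordinates. -/
noncomputable def dlogOp (sh : Fin n → ℕ) (ν : Fin n) : MvPolynomial (Fin n) R →ₗ[R] MvPolynomial (Fin n) R :=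
  op (fun m => (m ν : R)) fun m => m - Finsupp.single ν (sh ν)

variable (p) in
/-- The partial inverse of the derivative. -/
noncomputable def intOp (sh : Fin n → ℕ) (ν : Fin n) : MvPolynomial (Fin n) R →ₗ[R] MvPolynomial (Fin n) R :=
  op (fun m => inv' p (m ν + sh ν)) fun m => m + Finsupp.single ν (sh ν)

/-- The weight in position `ν`. -/
def wt (sh : Fin n → ℕ) (S : Finset (Fin n)) (ν : Fin n) (m : Fin n →₀ ℕ) : ℕ :=
  m ν + if ν ∈ S then sh ν else 0

variable (p) in
/-- The projection on weights divisible by `p` in the positions of `T`. -/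
noncomputable def projW (sh : Fin n → ℕ) (T S : Finset (Fin n)) :
    MvPolynomial (Fin n) R →+ MvPolynomial (Fin n) R :=
  (op (fun m => ∏ ν ∈ T, ind p ((wt sh S ν m : ℕ) : ZMod p)) id).toAddMonoidHom

variable {sh : Fin n → ℕ} (hsh : ∀ ν, sh ν ≤ 1)

theorem projW_monomial (T S : Finset (Fin n)) (m : Fin n →₀ ℕ) (c : R) :
    projW p sh T S (monomial m c) = monomial m (c * ∏ ν ∈ T, ind p ((wt sh S ν m : ℕ) : ZMod p)) :=
  op_monomial _ _ _ _

theorem dlogOp_intOp_self (ν : Fin n) (m : Fin n →₀ ℕ) (c : R) :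
    dlogOp sh ν (intOp p sh ν (monomial m c)) =
      monomial m (c * (1 - ind p (((m ν + sh ν : ℕ)) : ZMod p))) := by
  rw [intOp, dlogOp, op_monomial, op_monomial, add_tsub_cancel_right, Finsupp.add_apply, Finsupp.single_eq_same,
    mul_assoc, mul_comm (inv' p (m ν + sh ν)), natCast_mul_inv']

include hsh in
theorem intOp_dlogOp_self (ν : Fin n) (m : Fin n →₀ ℕ) (c : R) :
    intOp p sh ν (dlogOp sh ν (monomial m c)) = monomial m (c * (1 - ind p ((m ν : ℕ) : ZMod p))) := by
  rw [intOp, dlogOp, op_monomial, op_monomial, Finsupp.tsub_apply, Finsupp.single_eq_same]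
  rcases Nat.eq_zero_or_pos (m ν) with h | h
  · simp [h, ind]
  · have hle : sh ν ≤ m ν := (hsh ν).trans h
    rw [Nat.sub_add_cancel hle, tsub_add_cancel_of_le (Finsupp.single_le_iff.2 hle), mul_assoc, natCast_mul_inv']

include hsh in
theorem dlogOp_intOp_comm {ν μ : Fin n} (h : μ ≠ ν) (m : Fin n →₀ ℕ) (c : R) :
    dlogOp sh μ (intOp p sh ν (monomial m c)) = intOp p sh ν (dlogOp sh μ (monomial m c)) := by
  simp only [intOp, dlogOp, op_monomial, Finsupp.add_apply, Finsupp.tsub_apply, Finsupp.single_eq_of_ne h,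
    Finsupp.single_eq_of_ne h.symm, add_zero, tsub_zero]
  rcases Nat.eq_zero_or_pos (m μ) with h0 | h0
  · simp [h0]
  · rw [tsub_add_eq_add_tsub (Finsupp.single_le_iff.2 ((hsh μ).trans h0))]
    ring_nf

variable {L : Type u} [AddCommGroup L] [Module (MvPolynomial (Fin n) R) L] [Module R L]
  [IsScalarTower R (MvPolynomial (Fin n) R) L]
  (ε : Module.Basis (Fin n) (MvPolynomial (Fin n) R) L)
  (d : ∀ q : ℕ, ↥(⋀[MvPolynomial (Fin n) R]^q L) →ₗ[R] ↥(⋀[MvPolynomial (Fin n) R]^(q + 1) L))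
  (hd : ∀ (q : ℕ) (b : MvPolynomial (Fin n) R) (x : ↥(⋀[MvPolynomial (Fin n) R]^q L)), x ∈ const ε q →
    d q (b • x) = ∑ μ, dlogOp sh μ b • H27DR.lwedge q (ε μ) x)
  (hdd : ∀ q, d (q + 1) ∘ₗ d q = 0)

variable (p) in
/-- The projection of forms. -/
noncomputable def projForm (sh : Fin n → ℕ) (T : Finset (Fin n)) (a : ℕ) :
    ↥(⋀[MvPolynomial (Fin n) R]^a L) →+ ↥(⋀[MvPolynomial (Fin n) R]^a L) :=
  hat ε a (projW p sh T)

variable (p) in
/-- The homotopy in the variable `ν`. -/
noncomputable def hom' (sh : Fin n → ℕ) (ν : Fin n) (a : ℕ) :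
    ↥(⋀[MvPolynomial (Fin n) R]^(a + 1) L) →+ ↥(⋀[MvPolynomial (Fin n) R]^a L) :=
  (H27DR.contract (ε.coord ν) a).toAddMonoidHom.comp (hat ε (a + 1) fun _ => (intOp p sh ν).toAddMonoidHom)

theorem hom'_smul (ν : Fin n) {a : ℕ} (b : MvPolynomial (Fin n) R) {x : ↥(⋀[MvPolynomial (Fin n) R]^(a + 1) L)}
    (hx : x ∈ const ε (a + 1)) :
    hom' p ε sh ν a (b • x) = intOp p sh ν b • H27DR.contract (ε.coord ν) a x := by
  show H27DR.contract (ε.coord ν) a (hat ε (a + 1) _ (b • x)) = _
  rw [hat_smul_const ε _ b hx, map_smul]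
  rfl

theorem wedgeSet_mem_const {a : ℕ} (s : Set.powersetCard (Fin n) a) : wedgeSet ε s ∈ const ε a := by
  rw [wedgeSet_eq]; exact wedge_mem_const ε _

include hd hsh in
/-- `d K + K d = 1 - π` in the variable `ν`. -/
theorem homotopy (ν : Fin n) (a : ℕ) (ω : ↥(⋀[MvPolynomial (Fin n) R]^(a + 1) L)) :
    d a (hom' p ε sh ν a ω) + hom' p ε sh ν (a + 1) (d (a + 1) ω) = ω - projForm p ε sh {ν} (a + 1) ω := by
  refine form_induction ε (motive := fun ω => d a (hom' p ε sh ν a ω) + hom' p ε sh ν (a + 1) (d (a + 1) ω) =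
    ω - projForm p ε sh {ν} (a + 1) ω) (by simp) ?_ ?_ ω
  · intro x y hx hy
    simp only [map_add]
    rw [add_add_add_comm, hx, hy, add_sub_add_comm]
  intro m c s
  have hx := wedgeSet_mem_const ε s
  set x := wedgeSet ε s with hxdef
  have hlw : ∀ μ, H27DR.lwedge (a + 1) (ε μ) x ∈ const ε (a + 2) := fun μ => lwedge_mem_const ε μ hx
  rw [hd (a + 1) _ x hx, hom'_smul ε ν _ hx, hd a _ _ (contract_const ε ν hx), map_sum]
  rw [Finset.sum_congr rfl (s₂ := Finset.univ) fun μ _ => hom'_smul ε ν _ (hlw μ)]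
  rw [← Finset.sum_add_distrib, Finset.sum_eq_single ν ?_ (by simp)]
  · rw [H27DR.contract_lwedge, coord_basis, if_pos rfl, one_smul, dlogOp_intOp_self, intOp_dlogOp_self hsh,
      projForm, hxdef, hat_smul_wedgeSet, projW_monomial, Finset.prod_singleton, wedgeSet_eq ε s, lwedge_contract,
      Finset.image_orderEmbOfFin_univ]
    by_cases hν : ν ∈ s.1
    · rw [if_pos hν, wt, if_pos hν]
      simp only [mul_sub, mul_one, map_sub]
      module
    · rw [if_neg hν, wt, if_neg hν, add_zero]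
      simp only [mul_sub, mul_one, map_sub, smul_zero]
      module
  · intro μ _ hμ
    rw [H27DR.contract_lwedge, coord_basis, if_neg hμ, zero_smul, zero_sub, smul_neg,
      dlogOp_intOp_comm hsh hμ, add_neg_cancel]

include hd hsh in
theorem homotopy_zero (ν : Fin n) (ω : ↥(⋀[MvPolynomial (Fin n) R]^0 L)) :
    hom' p ε sh ν 0 (d 0 ω) = ω - projForm p ε sh {ν} 0 ω := by
  refine form_induction ε (motive := fun ω => hom' p ε sh ν 0 (d 0 ω) = ω - projForm p ε sh {ν} 0 ω) (by simp) ?_ ?_ ω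
  · intro x y hx hy
    simp only [map_add]
    rw [hx, hy, add_sub_add_comm]
  intro m c s
  have hx := wedgeSet_mem_const ε s
  have hlw : ∀ μ, H27DR.lwedge 0 (ε μ) (wedgeSet ε s) ∈ const ε 1 := fun μ => lwedge_mem_const ε μ hx
  rw [hd 0 _ _ hx, map_sum, Finset.sum_congr rfl (s₂ := Finset.univ) fun μ _ => hom'_smul ε ν _ (hlw μ)]
  have hs : s.1 = ∅ := Finset.card_eq_zero.1 s.2
  have hc : ∀ μ, H27DR.contract (ε.coord ν) 0 (H27DR.lwedge 0 (ε μ) (wedgeSet ε s)) =
      (if μ = ν then (1 : MvPolynomial (Fin n) R) else 0) • wedgeSet ε s := fun μ => by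
    rw [wedgeSet_eq, wedge, H27DR.lwedge_ιMulti, H27DR.contract_cons_zero, coord_basis]
  rw [Finset.sum_eq_single ν (fun μ _ hμ => by rw [hc, if_neg hμ, zero_smul, smul_zero]) (by simp), hc, if_pos rfl,
    one_smul, intOp_dlogOp_self hsh, projForm, hat_smul_wedgeSet, projW_monomial, Finset.prod_singleton, wt,
    if_neg (by rw [hs]; exact Finset.notMem_empty ν), add_zero]
  simp only [mul_sub, mul_one, map_sub]
  module

omit [Module R L] [IsScalarTower R (MvPolynomial (Fin n) R) L] in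
theorem projForm_insert {ν : Fin n} {T : Finset (Fin n)} (hν : ν ∉ T) (a : ℕ)
    (ω : ↥(⋀[MvPolynomial (Fin n) R]^a L)) :
    projForm p ε sh {ν} a (projForm p ε sh T a ω) = projForm p ε sh (insert ν T) a ω := by
  refine form_induction ε (motive := fun ω => projForm p ε sh {ν} a (projForm p ε sh T a ω) =
    projForm p ε sh (insert ν T) a ω) (by simp) ?_ ?_ ω
  · intro x y hx hy; simp only [map_add, hx, hy]
  intro m c s
  simp only [projForm, hat_smul_wedgeSet, projW_monomial, Finset.prod_singleton, Finset.prod_insert hν]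
  ring_nf

include hd hsh hdd in
/-- A closed form is cohomologous to its projection. -/
theorem sub_projForm_mem (T : Finset (Fin n)) :
    ∀ (a : ℕ) (ω : ↥(⋀[MvPolynomial (Fin n) R]^a L)), d a ω = 0 →
      (∃ η, (match a, η with
        | 0, η => η = (0 : ↥(⋀[MvPolynomial (Fin n) R]^0 L))
        | b + 1, η => ∃ ζ, d b ζ = η) ∧ ω = η + projForm p ε sh T a ω) ∧ d a (projForm p ε sh T a ω) = 0 := by
  induction T using Finset.induction with
  | empty =>
    intro a ω hω
    have h1 : projForm p ε sh ∅ a ω = ω := by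
      refine form_induction ε (motive := fun ω => projForm p ε sh ∅ a ω = ω) (by simp)
        (fun x y hx hy => by simp only [map_add, hx, hy]) ?_ ω
      intro m c s
      simp [projForm, hat_smul_wedgeSet, projW_monomial]
    rw [h1]
    refine ⟨⟨0, ?_, by rw [zero_add]⟩, hω⟩
    cases a with
    | zero => rfl
    | succ b => exact ⟨0, map_zero _⟩
  | @insert ν T hν ih =>
    intro a ω hω
    obtain ⟨⟨η, hη, e⟩, hcl⟩ := ih a ω hω
    rw [← projForm_insert ε hν]
    cases a with
    | zero =>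
      have h := homotopy_zero hsh ε d hd ν (projForm p ε sh T 0 ω)
      rw [hcl, map_zero, eq_comm, sub_eq_zero] at h
      rw [← h]
      exact ⟨⟨η, hη, e⟩, hcl⟩
    | succ b =>
      obtain ⟨ζ, rfl⟩ := hη
      have h := homotopy hsh ε d hd ν b (projForm p ε sh T (b + 1) ω)
      rw [hcl, map_zero, add_zero] at h
      refine ⟨⟨d b (ζ + hom' p ε sh ν b (projForm p ε sh T (b + 1) ω)), ⟨_, rfl⟩, ?_⟩, ?_⟩
      · rw [map_add, h]
        conv_lhs => rw [e]
        abel
      · have h2 : d (b + 1) (d b (hom' p ε sh ν b (projForm p ε sh T (b + 1) ω))) = 0 := LinearMap.congr_fun (hdd b) _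
        rw [h, map_sub, hcl, zero_sub, neg_eq_zero] at h2
        exact h2

include hd hsh in
/-- Exact forms have zero projection. -/
theorem projForm_d_eq_zero (a : ℕ) (ω : ↥(⋀[MvPolynomial (Fin n) R]^a L)) :
    projForm p ε sh Finset.univ (a + 1) (d a ω) = 0 := by
  refine form_induction ε (motive := fun ω => projForm p ε sh Finset.univ (a + 1) (d a ω) = 0) (by simp)
    (fun x y hx hy => by simp only [map_add, hx, hy, add_zero]) ?_ ω
  intro m c s
  rw [hd a _ _ (wedgeSet_mem_const ε s), map_sum]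
  refine Finset.sum_eq_zero fun μ _ => ?_
  rw [wedgeSet_eq, ← wedge_cons, projForm, hat_smul_wedge]
  suffices h : projW p sh Finset.univ (Finset.univ.image (Fin.cons μ (s.1.orderEmbOfFin s.2)))
      (dlogOp sh μ (monomial m c)) = 0 by rw [h, zero_smul]
  rw [dlogOp, op_monomial, projW_monomial]
  rcases Nat.eq_zero_or_pos (m μ) with h0 | h0
  · simp [h0]
  · by_cases hm : ((m μ : ℕ) : ZMod p) = 0
    · have : ((m μ : ℕ) : R) = 0 := by rw [← map_natCast (ZMod.castHom (dvd_refl p) R), hm, map_zero]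
      simp [this]
    · rw [Finset.prod_eq_zero (Finset.mem_univ μ), mul_zero, map_zero]
      refine if_neg ?_
      have hw : wt sh (Finset.univ.image (Fin.cons μ (s.1.orderEmbOfFin s.2))) μ
          (m - Finsupp.single μ (sh μ)) = m μ := by
        rw [wt, if_pos (Finset.mem_image.2 ⟨0, Finset.mem_univ _, Fin.cons_zero _ _⟩), Finsupp.tsub_apply,
          Finsupp.single_eq_same, Nat.sub_add_cancel ((hsh μ).trans h0)]
      rw [hw]
      exact hm

end Groth.Agent.H27LogPoly
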