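import Groth.Agent.H27Cartier.Poly
import Groth.Agent.H27DR.Euler

/-!
# Diagonal operators on exterior forms with monomial coefficients

`L` is free on `ε`; constant forms are integral combinations of wedges of the `ε`.
-/

set_option autoImplicit false
universe u

open exteriorPower MvPolynomial
open Groth.Agent.H27Cartier

namespace Groth.Agent.H27LogPoly

variable {R : Type u} [CommRing R] {n : ℕ} {L : Type u} [AddCommGroup L] [Module (MvPolynomial (Fin n) R) L]
  (ε : Module.Basis (Fin n) (MvPolynomial (Fin n) R) L)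

/-- A wedge of basis elements. -/
noncomputable def wedge {a : ℕ} (e : Fin a → Fin n) : ↥(⋀[MvPolynomial (Fin n) R]^a L) :=
  ιMulti (MvPolynomial (Fin n) R) a (fun i => ε (e i))

/-- Constant forms. -/
noncomputable def const (a : ℕ) : AddSubgroup ↥(⋀[MvPolynomial (Fin n) R]^a L) :=
  AddSubgroup.closure (Set.range fun e : Fin a → Fin n => wedge ε e)

theorem wedge_mem_const {a : ℕ} (e : Fin a → Fin n) : wedge ε e ∈ const ε a :=
  AddSubgroup.subset_closure ⟨e, rfl⟩

/-- The wedge along the increasing enumeration of a set. -/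
noncomputable def wedgeSet {a : ℕ} (s : Set.powersetCard (Fin n) a) : ↥(⋀[MvPolynomial (Fin n) R]^a L) :=
  ε.exteriorPower a s

theorem wedgeSet_eq {a : ℕ} (s : Set.powersetCard (Fin n) a) :
    wedgeSet ε s = wedge ε (s.1.orderEmbOfFin s.2) := by
  rw [wedgeSet, exteriorPower.basis_apply, ιMulti_family, wedge, Set.powersetCard.ofFinEmbEquiv_symm_apply]
  rfl

/-- An injective wedge is a signed increasing wedge. -/
theorem exists_wedge_eq {a : ℕ} (e : Fin a → Fin n) (he : Function.Injective e) :
    ∃ (z : ℤ) (s : Set.powersetCard (Fin n) a), s.1 = Finset.univ.image e ∧ wedge ε e = z • wedgeSet ε s := by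
  classical
  let S := Finset.univ.image e
  have hS : S.card = a := by rw [Finset.card_image_of_injective _ he]; simp
  let f := S.orderEmbOfFin hS
  have hf : ∀ i, ∃ j, f j = e i := fun i => by
    have : e i ∈ Set.range f := by rw [Finset.range_orderEmbOfFin]; simp [S]
    exact this
  choose σ hσ using hf
  have hσi : Function.Injective σ := fun i j hij => he (by rw [← hσ i, ← hσ j, hij])
  let π : Equiv.Perm (Fin a) := Equiv.ofBijective σ (Finite.injective_iff_bijective.1 hσi)
  refine ⟨Equiv.Perm.sign π, ⟨S, hS⟩, rfl, ?_⟩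
  rw [wedgeSet_eq, wedge, wedge]
  rw [show (fun i => ε (e i)) = (fun j => ε (f j)) ∘ π from funext fun i => by
    show ε (e i) = ε (f (σ i)); rw [hσ]]
  rw [AlternatingMap.map_perm, Units.smul_def]

/-- The diagonal extension of a family of additive operators indexed by sets. -/
noncomputable def hat (a : ℕ) (T : Finset (Fin n) → MvPolynomial (Fin n) R →+ MvPolynomial (Fin n) R) :
    ↥(⋀[MvPolynomial (Fin n) R]^a L) →+ ↥(⋀[MvPolynomial (Fin n) R]^a L) :=
  (ε.exteriorPower a).repr.symm.toLinearMap.toAddMonoidHom.comp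
    ((Finsupp.liftAddHom fun s => (Finsupp.singleAddHom s).comp (T s.1)).comp
      (ε.exteriorPower a).repr.toLinearMap.toAddMonoidHom)

theorem hat_smul_wedgeSet {a : ℕ} (T : Finset (Fin n) → MvPolynomial (Fin n) R →+ MvPolynomial (Fin n) R)
    (b : MvPolynomial (Fin n) R) (s : Set.powersetCard (Fin n) a) :
    hat ε a T (b • wedgeSet ε s) = T s.1 b • wedgeSet ε s := by
  show (ε.exteriorPower a).repr.symm (Finsupp.liftAddHom (fun s : Set.powersetCard (Fin n) a =>
    (Finsupp.singleAddHom s).comp (T s.1)) ((ε.exteriorPower a).repr (b • ε.exteriorPower a s))) = _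
  rw [map_smul, Module.Basis.repr_self, Finsupp.smul_single, smul_eq_mul, mul_one, Finsupp.liftAddHom_apply_single]
  show (ε.exteriorPower a).repr.symm (Finsupp.single s (T s.1 b)) = _
  rw [← Finsupp.smul_single_one, map_smul, Module.Basis.repr_symm_single_one]
  rfl

theorem hat_smul_wedge {a : ℕ} (T : Finset (Fin n) → MvPolynomial (Fin n) R →+ MvPolynomial (Fin n) R)
    (b : MvPolynomial (Fin n) R) (e : Fin a → Fin n) :
    hat ε a T (b • wedge ε e) = T (Finset.univ.image e) b • wedge ε e := by
  classical
  by_cases he : Function.Injective e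
  · obtain ⟨z, s, hs, hz⟩ := exists_wedge_eq ε e he
    rw [hz, smul_comm, map_zsmul, hat_smul_wedgeSet, hs, smul_comm]
  · rw [wedge, AlternatingMap.map_eq_zero_of_not_injective _ _ fun h => he fun i j hij => h (congrArg ε hij)]
    simp

/-- Extension of a single operator to all forms. -/
theorem hat_smul_const {a : ℕ} (T : MvPolynomial (Fin n) R →+ MvPolynomial (Fin n) R)
    (b : MvPolynomial (Fin n) R) {x : ↥(⋀[MvPolynomial (Fin n) R]^a L)} (hx : x ∈ const ε a) :
    hat ε a (fun _ => T) (b • x) = T b • x := by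
  induction hx using AddSubgroup.closure_induction with
  | mem x hx => obtain ⟨e, rfl⟩ := hx; exact hat_smul_wedge ε (fun _ => T) b e
  | zero => simp
  | add x y _ _ hx hy => simp only [smul_add, map_add, hx, hy]
  | neg x _ hx => simp only [smul_neg, map_neg, hx]

/-- Forms are generated by monomial multiples of increasing wedges. -/
theorem form_induction {a : ℕ} {motive : ↥(⋀[MvPolynomial (Fin n) R]^a L) → Prop}
    (hzero : motive 0) (hadd : ∀ x y, motive x → motive y → motive (x + y))
    (hmon : ∀ (m : Fin n →₀ ℕ) (c : R) s, motive (monomial m c • wedgeSet ε s))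
    (x : ↥(⋀[MvPolynomial (Fin n) R]^a L)) : motive x := by
  have : ∀ (b : MvPolynomial (Fin n) R) s, motive (b • wedgeSet ε s) := fun b s => by
    induction b using MvPolynomial.induction_on' with
    | add p q hp hq => rw [add_smul]; exact hadd _ _ hp hq
    | monomial m c => exact hmon m c s
  rw [← (ε.exteriorPower a).sum_repr x]
  exact Finset.sum_induction _ motive hadd hzero fun s _ => this _ s

theorem lwedge_mem_const {a : ℕ} (ν : Fin n) {x : ↥(⋀[MvPolynomial (Fin n) R]^a L)} (hx : x ∈ const ε a) :
    H27DR.lwedge a (ε ν) x ∈ const ε (a + 1) := by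
  induction hx using AddSubgroup.closure_induction with
  | mem x hx =>
    obtain ⟨e, rfl⟩ := hx
    show H27DR.lwedge a (ε ν) (wedge ε e) ∈ _
    rw [wedge, H27DR.lwedge_ιMulti]
    refine AddSubgroup.subset_closure ⟨Fin.cons ν e, ?_⟩
    show ιMulti _ _ _ = _
    congr 1
    funext i
    refine Fin.cases ?_ ?_ i <;> simp
  | zero => simp
  | add x y _ _ hx hy => rw [map_add]; exact add_mem hx hy
  | neg x _ hx => rw [map_neg]; exact neg_mem hx

theorem wedge_cons {a : ℕ} (ν : Fin n) (e : Fin a → Fin n) :
    wedge ε (Fin.cons ν e) = H27DR.lwedge a (ε ν) (wedge ε e) := by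
  rw [wedge, wedge, H27DR.lwedge_ιMulti]
  congr 1
  funext i
  refine Fin.cases ?_ ?_ i <;> simp

theorem coord_basis (ν μ : Fin n) : ε.coord ν (ε μ) = if μ = ν then 1 else 0 := by
  rw [Module.Basis.coord_apply, Module.Basis.repr_self, Finsupp.single_apply]

theorem contract_mem_const (ν : Fin n) : ∀ (a : ℕ) (e : Fin (a + 1) → Fin n),
    H27DR.contract (ε.coord ν) a (wedge ε e) ∈ const ε a := by
  intro a
  induction a with
  | zero =>
    intro e
    rw [wedge, show (fun i => ε (e i)) = Fin.cons (ε (e 0)) (fun i : Fin 0 => ε (e i.succ)) by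
      funext i; refine Fin.cases ?_ ?_ i <;> simp, H27DR.contract_cons_zero, coord_basis]
    split
    · rw [one_smul]; exact wedge_mem_const ε _
    · rw [zero_smul]; exact zero_mem _
  | succ a ih =>
    intro e
    rw [← Fin.cons_self_tail e, wedge_cons, H27DR.contract_lwedge, coord_basis]
    refine sub_mem ?_ (lwedge_mem_const ε _ (ih _))
    split
    · rw [one_smul]; exact wedge_mem_const ε _
    · rw [zero_smul]; exact zero_mem _

theorem contract_const (ν : Fin n) {a : ℕ} {x : ↥(⋀[MvPolynomial (Fin n) R]^(a + 1) L)} (hx : x ∈ const ε (a + 1)) :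
    H27DR.contract (ε.coord ν) a x ∈ const ε a := by
  induction hx using AddSubgroup.closure_induction with
  | mem x hx => obtain ⟨e, rfl⟩ := hx; exact contract_mem_const ε ν a e
  | zero => simp
  | add x y _ _ hx hy => rw [map_add]; exact add_mem hx hy
  | neg x _ hx => rw [map_neg]; exact neg_mem hx

/-- `ε_ν ∧ (contraction by ε_ν)` is the projection on the wedges containing `ν`. -/
theorem lwedge_contract (ν : Fin n) : ∀ (a : ℕ) (e : Fin (a + 1) → Fin n),
    H27DR.lwedge a (ε ν) (H27DR.contract (ε.coord ν) a (wedge ε e)) =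
      if ν ∈ Finset.univ.image e then wedge ε e else 0 := by
  intro a
  induction a with
  | zero =>
    intro e
    rw [wedge, show (fun i => ε (e i)) = Fin.cons (ε (e 0)) (fun i : Fin 0 => ε (e i.succ)) by
      funext i; refine Fin.cases ?_ ?_ i <;> simp, H27DR.contract_cons_zero, coord_basis]
    simp only [Finset.mem_image, Finset.mem_univ, true_and]
    by_cases h : e 0 = ν
    · rw [if_pos h, if_pos ⟨0, h⟩, one_smul, H27DR.lwedge_ιMulti, h]
    · rw [if_neg h, if_neg (fun ⟨i, hi⟩ => h (by rwa [Fin.eq_zero i] at hi)), zero_smul, map_zero]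
  | succ a ih =>
    intro e
    obtain ⟨x, t, rfl⟩ : ∃ x t, e = Fin.cons x t := ⟨e 0, Fin.tail e, (Fin.cons_self_tail e).symm⟩
    have hmem : ν ∈ Finset.univ.image (Fin.cons x t : Fin (a + 2) → Fin n) ↔ x = ν ∨ ν ∈ Finset.univ.image t := by
      simp [Finset.mem_image, Fin.exists_fin_succ]
    rw [wedge_cons, H27DR.contract_lwedge, coord_basis, map_sub, map_smul, H27DR.lwedge_comm, ih t, sub_neg_eq_add]
    by_cases hx : x = ν
    · subst hx
      rw [if_pos rfl, one_smul, if_pos (hmem.2 (Or.inl rfl))]
      rw [show H27DR.lwedge (a + 1) (ε x) (if x ∈ Finset.univ.image t then wedge ε t else 0) = 0 from ?_, add_zero]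
      split
      · rename_i h
        rw [← wedge_cons, wedge]
        refine AlternatingMap.map_eq_zero_of_not_injective _ _ fun hinj => ?_
        obtain ⟨i, -, hi⟩ := Finset.mem_image.1 h
        exact Fin.succ_ne_zero i (hinj (by simp [hi]))
      · rw [map_zero]
    · rw [if_neg hx, zero_smul, zero_add, apply_ite (H27DR.lwedge (a + 1) (ε x)), map_zero]
      by_cases ht : ν ∈ Finset.univ.image t
      · rw [if_pos ht, if_pos (hmem.2 (Or.inr ht))]
      · rw [if_neg ht, if_neg fun h => (hmem.1 h).elim hx ht]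

end Groth.Agent.H27LogPoly
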